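import Cfsg.Agent.Lib.ToralFusion.AltSeven

/-!
# No section `A₈`

* `sq_eq_sq` : two commuting elements of order 4 of `A₈` have equal squares;
* `le_seven_of_index_four` : if an abelian subgroup with at most 4 elements of order dividing 2 has
  index at most 4 in a Sylow 2-subgroup, there is no section `A_r`, `r ≥ 8`.
-/

set_option autoImplicit false
set_option linter.style.haveILetI false

namespace Cfsg.Agent.ToralFusion

open Equiv

/-- `(0 1 2 3)(4 5)`. -/
def repA : Perm (Fin 8) :=
  ⟨![1, 2, 3, 0, 5, 4, 6, 7], ![3, 0, 1, 2, 5, 4, 6, 7], by decide, by decide⟩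

/-- `(0 1 2 3)(4 5 6 7)`. -/
def repB : Perm (Fin 8) :=
  ⟨![1, 2, 3, 0, 5, 6, 7, 4], ![3, 0, 1, 2, 7, 4, 5, 6], by decide, by decide⟩

theorem commA_table : ∀ p : Fin 8, repA (repA p) ≠ p → ∀ q : Fin 8, repA (repA q) = q → repA q ≠ q →
    ∀ r : Fin 8, repA r = r → ∀ s : Fin 8, repA s = s → r ≠ s →
      ∀ i, ![p, repA p, repA (repA p), repA (repA (repA p)), q, repA q, r, s]
            (![p, repA p, repA (repA p), repA (repA (repA p)), q, repA q, r, s] i) = i ∨
          ∀ j, ![p, repA p, repA (repA p), repA (repA (repA p)), q, repA q, r, s]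
            (![p, repA p, repA (repA p), repA (repA (repA p)), q, repA q, r, s] j) = repA (repA j) := by
  decide +kernel

/-- The candidate for an element commuting with `repB`. -/
def candB (p q : Fin 8) : Fin 8 → Fin 8 :=
  ![p, repB p, repB (repB p), repB (repB (repB p)), q, repB q, repB (repB q), repB (repB (repB q))]

theorem commB_table : ∀ p q : Fin 8, ∀ h : (∀ i, candB p q (candB p q (candB p q (candB p q i))) = i),
    Perm.sign (⟨candB p q, fun i => candB p q (candB p q (candB p q i)), h, h⟩ : Perm (Fin 8)) = 1 →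
    (∀ i, candB p q (candB p q i) = i) ∨ ∀ i, candB p q (candB p q i) = repB (repB i) := by
  decide +kernel

theorem comm_apply {x y : Perm (Fin 8)} (h : y * x = x * y) (i : Fin 8) : y (x i) = x (y i) :=
  Equiv.ext_iff.1 h i

theorem sq_eq_repA {y : Perm (Fin 8)} (h : y * repA = repA * y) (h2 : y ^ 2 ≠ 1) : y ^ 2 = repA ^ 2 := by
  have c := comm_apply h
  have cc : ∀ i, y (repA (repA i)) = repA (repA (y i)) := fun i => by rw [c, c]
  have hp : repA (repA (y 0)) ≠ y 0 := fun e => absurd (y.injective ((cc 0).trans e)) (by decide)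
  have hq : repA (repA (y 4)) = y 4 := (cc 4).symm.trans (congrArg y (by decide))
  have hq' : repA (y 4) ≠ y 4 := fun e => absurd (y.injective ((c 4).trans e)) (by decide)
  have hr : repA (y 6) = y 6 := (c 6).symm.trans (congrArg y (by decide))
  have hs : repA (y 7) = y 7 := (c 7).symm.trans (congrArg y (by decide))
  have hy : ∀ i, y i = ![y 0, repA (y 0), repA (repA (y 0)), repA (repA (repA (y 0))), y 4, repA (y 4), y 6, y 7] i := by
    intro i
    fin_cases i
    · rfl
    · exact c 0
    · exact cc 0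
    · exact (c 2).trans (congrArg repA (cc 0))
    · rfl
    · exact c 4
    · rfl
    · rfl
  by_contra hne
  apply h2
  refine Equiv.ext fun i => ?_
  rw [pow_two, Perm.mul_apply, Perm.one_apply]
  rcases commA_table _ hp _ hq hq' _ hr _ hs (fun e => absurd (y.injective e) (by decide)) i with h' | h'
  · rw [hy (y i), hy i]; exact h'
  · exact absurd (Equiv.ext fun j => by
      rw [pow_two, pow_two, Perm.mul_apply, Perm.mul_apply, hy (y j), hy j]; exact h' j) hne

theorem sq_eq_repB {y : Perm (Fin 8)} (h : y * repB = repB * y) (hs : Perm.sign y = 1) (h4 : y ^ 4 = 1)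
    (h2 : y ^ 2 ≠ 1) : y ^ 2 = repB ^ 2 := by
  have c := comm_apply h
  have cc : ∀ i, y (repB (repB i)) = repB (repB (y i)) := fun i => by rw [c, c]
  have ccc : ∀ i, y (repB (repB (repB i))) = repB (repB (repB (y i))) := fun i => by rw [c, c, c]
  have hy : ∀ i, y i = candB (y 0) (y 4) i := by
    intro i
    fin_cases i
    · rfl
    · exact c 0
    · exact cc 0
    · exact ccc 0
    · rfl
    · exact c 4
    · exact cc 4
    · exact ccc 4
  have h' : ∀ i, candB (y 0) (y 4) (candB (y 0) (y 4) (candB (y 0) (y 4) (candB (y 0) (y 4) i))) = i := by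
    intro i
    simp only [← hy]
    exact Equiv.ext_iff.1 h4 i
  have hsign : Perm.sign (⟨candB (y 0) (y 4), fun i => candB (y 0) (y 4) (candB (y 0) (y 4) (candB (y 0) (y 4) i)),
      h', h'⟩ : Perm (Fin 8)) = 1 := by
    refine Eq.trans (congrArg Perm.sign ?_) hs
    exact Equiv.ext fun i => (hy i).symm
  rcases commB_table _ _ h' hsign with h1 | h1
  · exact absurd (Equiv.ext fun i => by
      rw [pow_two, Perm.mul_apply, Perm.one_apply, hy (y i), hy i]; exact h1 i) h2
  · exact Equiv.ext fun i => by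
      rw [pow_two, pow_two, Perm.mul_apply, Perm.mul_apply, hy (y i), hy i]; exact h1 i

theorem cycleType_order_four {x : Perm (Fin 8)} (hs : Perm.sign x = 1) (h4 : x ^ 4 = 1) (h2 : x ^ 2 ≠ 1) :
    x.cycleType = {4, 2} ∨ x.cycleType = {4, 4} := by
  have ho : orderOf x = 4 := orderOf_eq_prime_pow (p := 2) (n := 1) (by simpa using h2) (by simpa using h4)
  have hdvd : ∀ n ∈ x.cycleType, n ∣ 4 := fun n hn => ho ▸ Perm.dvd_of_mem_cycleType hn
  have hmem : ∀ n ∈ x.cycleType, n = 4 ∨ n = 2 := fun n hn => by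
    have h1 := Perm.two_le_of_mem_cycleType hn
    have h3 := Nat.le_of_dvd (by norm_num) (hdvd n hn)
    have h5 := hdvd n hn
    interval_cases n <;> omega
  have e : x.cycleType = Multiset.replicate (x.cycleType.count 4) 4 + Multiset.replicate (x.cycleType.count 2) 2 := by
    refine Multiset.ext.2 fun n => ?_
    rw [Multiset.count_add, Multiset.count_replicate, Multiset.count_replicate]
    by_cases hn4 : n = 4
    · subst hn4; simp
    by_cases hn2 : n = 2
    · subst hn2; simp
    rw [if_neg (Ne.symm hn4), if_neg (Ne.symm hn2)]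
    exact Multiset.count_eq_zero.2 fun hm => (hmem n hm).elim hn4 hn2
  have ha : 0 < x.cycleType.count 4 := by
    by_contra ha
    have h0 : x.cycleType.count 4 = 0 := by omega
    have h3 : x.cycleType.lcm ∣ 2 := by
      rw [Multiset.lcm_dvd]
      intro n hn
      rcases hmem n hn with rfl | rfl
      · exact absurd (Multiset.count_eq_zero.1 h0) (not_not.2 hn)
      · exact dvd_rfl
    rw [Perm.lcm_cycleType, ho] at h3
    norm_num at h3
  have hsum : x.cycleType.sum ≤ 8 := by
    rw [Perm.sum_cycleType]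
    simpa using x.support.card_le_univ
  rw [e] at hsum
  simp only [Multiset.sum_add, Multiset.sum_replicate, smul_eq_mul] at hsum
  rw [Perm.sign_of_cycleType, e] at hs
  simp only [Multiset.sum_add, Multiset.sum_replicate, smul_eq_mul, Multiset.card_add,
    Multiset.card_replicate] at hs
  generalize hA : x.cycleType.count 4 = a at *
  generalize hB : x.cycleType.count 2 = b at *
  have hA2 : a ≤ 2 := by omega
  have hB2 : b ≤ 2 := by omega
  rw [e]
  interval_cases a <;> interval_cases b <;> first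
    | omega
    | (revert hs; decide)

theorem sq_eq_sq {x y : Perm (Fin 8)} (hx : Perm.sign x = 1) (hy : Perm.sign y = 1) (h : y * x = x * y)
    (hx4 : x ^ 4 = 1) (hx2 : x ^ 2 ≠ 1) (hy4 : y ^ 4 = 1) (hy2 : y ^ 2 ≠ 1) : y ^ 2 = x ^ 2 := by
  have key : ∀ c : Perm (Fin 8), (c * x * c⁻¹ = repA ∨ c * x * c⁻¹ = repB) → y ^ 2 = x ^ 2 := by
    intro c hc
    have h' : c * y * c⁻¹ * (c * x * c⁻¹) = c * x * c⁻¹ * (c * y * c⁻¹) := by
      rw [show c * y * c⁻¹ * (c * x * c⁻¹) = c * (y * x) * c⁻¹ by group, h]; group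
    have hs' : Perm.sign (c * y * c⁻¹) = 1 := by
      rw [map_mul, map_mul, map_inv, hy, mul_one, mul_inv_cancel]
    have h4' : (c * y * c⁻¹) ^ 4 = 1 := by rw [conj_pow, hy4, mul_one, mul_inv_cancel]
    have h2' : (c * y * c⁻¹) ^ 2 ≠ 1 := by rw [conj_pow, ne_eq, conj_eq_one_iff]; exact hy2
    have h3 : (c * y * c⁻¹) ^ 2 = (c * x * c⁻¹) ^ 2 := by
      rcases hc with e | e <;> rw [e] at h' ⊢
      · exact sq_eq_repA h' h2'
      · exact sq_eq_repB h' hs' h4' h2'
    rw [conj_pow, conj_pow] at h3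
    exact mul_left_cancel (mul_right_cancel h3)
  rcases cycleType_order_four hx hx4 hx2 with e | e
  · have : IsConj x repA := Perm.isConj_iff_cycleType_eq.2 (e.trans (by decide +kernel))
    obtain ⟨c, hc⟩ := isConj_iff.1 this
    exact key c (Or.inl hc)
  · have : IsConj x repB := Perm.isConj_iff_cycleType_eq.2 (e.trans (by decide +kernel))
    obtain ⟨c, hc⟩ := isConj_iff.1 this
    exact key c (Or.inr hc)

/-- A 2-element of `A₈` has order dividing 4. -/
theorem pow_four_eq_one {x : Perm (Fin 8)} (hs : Perm.sign x = 1) {k : ℕ} (hk : x ^ (2 ^ k) = 1) : x ^ 4 = 1 := by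
  rw [← orderOf_dvd_iff_pow_eq_one, ← Perm.lcm_cycleType, Multiset.lcm_dvd]
  intro n hn
  obtain ⟨j, -, rfl⟩ := (Nat.dvd_prime_pow Nat.prime_two).1
    ((Perm.dvd_of_mem_cycleType hn).trans (orderOf_dvd_of_pow_eq_one hk))
  by_cases hj : j ≤ 2
  · exact (pow_dvd_pow 2 hj).trans (by norm_num)
  exfalso
  have h8 : 8 ≤ 2 ^ j := le_trans (by norm_num) (Nat.pow_le_pow_right two_pos (show 3 ≤ j by omega))
  have hsum : x.cycleType.sum ≤ 8 := by
    rw [Perm.sum_cycleType]
    simpa using x.support.card_le_univ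
  obtain ⟨m, hm⟩ := Multiset.exists_cons_of_mem hn
  rw [hm, Multiset.sum_cons] at hsum
  have hm0 : m = 0 := by
    refine Multiset.eq_zero_of_forall_notMem fun a ha => ?_
    have := Perm.two_le_of_mem_cycleType (show a ∈ x.cycleType from hm ▸ Multiset.mem_cons_of_mem ha)
    have := Multiset.le_sum_of_mem ha
    omega
  subst hm0
  have h8' : 2 ^ j = 8 := by rw [Multiset.sum_zero] at hsum; omega
  rw [Perm.sign_of_cycleType, hm, h8'] at hs
  revert hs; decide

theorem card_ker_eq_index_range {α : Type*} [Group α] [Finite α] (f : α →* α) :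
    Nat.card f.ker = f.range.index := by
  have h1 := f.range.card_mul_index
  have h2 := f.ker.card_mul_index
  rw [Subgroup.index_ker] at h2
  rw [← h2, mul_comm] at h1
  exact (Nat.eq_of_mul_eq_mul_right Nat.card_pos h1).symm

theorem card_le_eight {α β : Type*} [CommGroup α] [Finite α] [Group β] [Finite β] (f : α →* β)
    (hf : Function.Surjective f) (hα : Nat.card (powMonoidHom 2 : α →* α).ker ≤ 4)
    (hsq : ∀ u v : β, u ^ 2 ≠ 1 → v ^ 2 ≠ 1 → u ^ 2 = v ^ 2) : Nat.card β ≤ 8 := by
  letI : CommGroup β := { (inferInstance : Group β) with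
    mul_comm := fun a b => by
      obtain ⟨a, rfl⟩ := hf a; obtain ⟨b, rfl⟩ := hf b
      rw [← map_mul, ← map_mul, mul_comm] }
  set σ : β →* β := powMonoidHom 2
  have h1 : Nat.card σ.ker ≤ 4 := by
    rw [card_ker_eq_index_range]
    refine le_trans (Nat.le_of_dvd ?_ ?_) ((card_ker_eq_index_range _).symm.le.trans hα)
    · exact Nat.pos_of_ne_zero Subgroup.index_ne_zero_of_finite
    · refine dvd_trans (Subgroup.index_dvd_of_le ?_) ((powMonoidHom 2 : α →* α).range.index_map_dvd hf)
      rintro _ ⟨_, ⟨a, rfl⟩, rfl⟩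
      exact ⟨f a, (map_pow f a 2).symm⟩
  have h2 : Nat.card σ.range ≤ 2 := by
    by_cases h : ∃ u : β, u ^ 2 ≠ 1
    · obtain ⟨u, hu⟩ := h
      have hsub : (σ.range : Set β) ⊆ {1, u ^ 2} := by
        rintro _ ⟨v, rfl⟩
        by_cases hv : v ^ 2 = 1
        · exact Or.inl hv
        · exact Or.inr (hsq v u hv hu)
      calc Nat.card σ.range ≤ Nat.card ({1, u ^ 2} : Set β) :=
            Nat.card_mono (Set.toFinite _) hsub
        _ ≤ 2 := by
            rw [Nat.card_coe_set_eq]
            exact (Set.ncard_insert_le _ _).trans (by simp)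
    · push Not at h
      rw [Subgroup.eq_bot_iff_forall σ.range |>.2 (by rintro _ ⟨v, rfl⟩; exact h v), Subgroup.card_bot]
      omega
  have h3 := σ.ker.card_mul_index
  rw [Subgroup.index_ker] at h3
  rw [← h3]
  exact le_trans (Nat.mul_le_mul h1 h2) (by norm_num)

theorem le_seven_of_index_four {G : Type*} [Group G] [Finite G] {T : Subgroup G}
    (hab : ∀ a ∈ T, ∀ b ∈ T, a * b = b * a) (hrank : Nat.card {t : T // t ^ 2 = 1} ≤ 4)
    (hT : ∃ S : Sylow 2 G, T.relIndex S ≤ 4) {r : ℕ} {H : Subgroup G}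
    (π : H →* alternatingGroup (Fin r)) (hπ : Function.Surjective π) : r ≤ 7 := by
  by_contra hr
  obtain ⟨H', π', hπ'⟩ := exists_alt_section (m := 8) (by omega) π hπ
  obtain ⟨S, hS⟩ := hT
  obtain ⟨P⟩ : Nonempty (Sylow 2 H') := inferInstance
  have hP64 : 64 ∣ Nat.card ((P : Subgroup H').map π') := by
    have h := Sylow.card_eq_multiplicity (P.mapSurjective hπ')
    have hc : Nat.card (alternatingGroup (Fin 8)) = 2 ^ 6 * 315 := by
      rw [nat_card_alternatingGroup, Nat.card_fin]; rfl
    rw [Sylow.coe_mapSurjective] at h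
    rw [h]
    exact (Nat.prime_two.pow_dvd_iff_dvd_ordProj Nat.card_pos.ne').1 (hc ▸ dvd_mul_right _ _)
  -- conjugate the Sylow subgroup of the section into `S`
  obtain ⟨S', hS'⟩ := (P.isPGroup'.map H'.subtype).exists_le_sylow
  obtain ⟨d, hd⟩ := MulAction.exists_smul_eq G S' S
  let φ : (P : Subgroup H') →* G :=
    (MulAut.conj d).toMonoidHom.comp (H'.subtype.comp (P : Subgroup H').subtype)
  have hφ : Function.Injective φ :=
    (MulAut.conj d).injective.comp (H'.subtype_injective.comp (P : Subgroup H').subtype_injective)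
  have hφS : φ.range ≤ (S : Subgroup G) := by
    rintro _ ⟨y, rfl⟩
    exact hd ▸ mem_smul_sylow.2 ⟨_, hS' ⟨y.1, y.2, rfl⟩, rfl⟩
  set A : Subgroup (P : Subgroup H') := T.comap φ
  have hA : A.index ≤ 4 := by
    have h0 : T.relIndex S ≠ 0 :=
      ne_zero_of_dvd_ne_zero (Nat.card_pos (α := ↥(S : Subgroup G))).ne' (Subgroup.index_dvd_card _)
    rw [Subgroup.index_comap]
    exact (Subgroup.relIndex_le_of_le_right hφS h0).trans hS
  let ψ : (P : Subgroup H') →* alternatingGroup (Fin 8) := π'.comp (P : Subgroup H').subtype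
  have hψ : ψ.range = (P : Subgroup H').map π' := by
    rw [MonoidHom.range_comp, Subgroup.range_subtype]
  -- the image of `A`
  let f : A →* A.map ψ := ψ.subgroupMap A
  letI : CommGroup A := { (inferInstance : Group A) with
    mul_comm := fun a b => Subtype.ext (hφ (by
      rw [Subgroup.coe_mul, Subgroup.coe_mul, map_mul, map_mul]
      exact hab _ a.2 _ b.2)) }
  have hA2 : Nat.card (powMonoidHom 2 : A →* A).ker ≤ 4 := by
    refine le_trans (Nat.card_le_card_of_injective
      (fun a : (powMonoidHom 2 : A →* A).ker => (⟨⟨φ a.1.1, a.1.2⟩, ?_⟩ : {t : T // t ^ 2 = 1})) ?_) hrank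
    · have h := congrArg (fun z : A => φ z.1) (MonoidHom.mem_ker.1 a.2)
      refine Subtype.ext ?_
      simpa using h
    · intro a b h
      exact Subtype.ext (Subtype.ext (hφ (congrArg (fun z => z.1.1) h)))
  have hB : Nat.card (A.map ψ) ≤ 8 := by
    refine card_le_eight f (MonoidHom.subgroupMap_surjective _ _) hA2 fun u v hu hv => ?_
    obtain ⟨a, rfl⟩ := MonoidHom.subgroupMap_surjective ψ A u
    obtain ⟨b, rfl⟩ := MonoidHom.subgroupMap_surjective ψ A v
    have h4 : ∀ z : (P : Subgroup H'), (ψ z).1 ^ 4 = 1 := fun z => by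
      obtain ⟨k, hk⟩ := P.isPGroup' z
      refine pow_four_eq_one (ψ z).2 (k := k) ?_
      have h := congrArg (fun w => (ψ w).1) hk
      simpa using h
    have hcomm : (ψ b.1).1 * (ψ a.1).1 = (ψ a.1).1 * (ψ b.1).1 := by
      have h := congrArg (fun z : A => (ψ z.1).1) (mul_comm b a)
      simpa only [Subgroup.coe_mul, map_mul] using h
    refine Subtype.ext (Subtype.ext ?_)
    refine (sq_eq_sq (ψ a.1).2 (ψ b.1).2 hcomm (h4 _) ?_ (h4 _) ?_).symm
    · exact fun e => hu (Subtype.ext (Subtype.ext e))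
    · exact fun e => hv (Subtype.ext (Subtype.ext e))
  have hidx : Nat.card ψ.range ≤ Nat.card (A.map ψ) * 4 := by
    have h1 := (A.map ψ.rangeRestrict).card_mul_index
    have h2 : (A.map ψ.rangeRestrict).index ∣ A.index :=
      A.index_map_dvd ψ.rangeRestrict_surjective
    have h3 : Nat.card (A.map ψ.rangeRestrict) = Nat.card (A.map ψ) := by
      conv_rhs => rw [← MonoidHom.subtype_comp_rangeRestrict ψ, ← Subgroup.map_map]
      exact (Subgroup.card_map_of_injective ψ.range.subtype_injective).symm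
    rw [h3] at h1
    rw [← h1]
    exact Nat.mul_le_mul_left _ ((Nat.le_of_dvd (Nat.pos_of_ne_zero Subgroup.index_ne_zero_of_finite) h2).trans hA)
  rw [hψ] at hidx
  have := Nat.le_of_dvd Nat.card_pos hP64
  omega

end Cfsg.Agent.ToralFusion
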