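import Cfsg.Agent.Lib.ToralFusion.Section
import Mathlib.GroupTheory.SpecificGroups.Alternating

/-!
# No section `A₇`

* `exists_alt_section` : a section `A_r` gives sections `A_m`, `m ≤ r`;
* `le_six_of_centPow` : a toral Sylow 5-subgroup with `CentPow T 6` excludes `A_r`, `r ≥ 7`.
-/

set_option autoImplicit false
set_option linter.style.haveILetI false

namespace Cfsg.Agent.ToralFusion

open Equiv

/-- The standard embedding of alternating groups. -/
noncomputable def altCast {m r : ℕ} (h : m ≤ r) : alternatingGroup (Fin m) →* alternatingGroup (Fin r) :=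
  ((Perm.viaEmbeddingHom (Fin.castLEEmb h)).comp (alternatingGroup (Fin m)).subtype).codRestrict _ fun s => by
    rw [Perm.mem_alternatingGroup, MonoidHom.comp_apply, Perm.viaEmbeddingHom_apply, Perm.viaEmbedding,
      Perm.sign_extendDomain]
    exact s.2

theorem altCast_injective {m r : ℕ} (h : m ≤ r) : Function.Injective (altCast h) := fun _ _ e =>
  Subtype.ext (Perm.viaEmbeddingHom_injective _ (congrArg Subtype.val e))

/-- A subgroup of a section is a section. -/
theorem exists_section {G Q Q' : Type*} [Group G] [Group Q] [Group Q'] {H : Subgroup G} (π : H →* Q)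
    (hπ : Function.Surjective π) (j : Q' →* Q) (hj : Function.Injective j) :
    ∃ (H' : Subgroup G) (π' : H' →* Q'), Function.Surjective π' := by
  let M : Subgroup H := j.range.comap π
  let e : M ≃* M.map H.subtype := M.equivMapOfInjective H.subtype H.subtype_injective
  let f : M →* j.range := (π.comp M.subtype).codRestrict j.range fun y => y.2
  refine ⟨M.map H.subtype, ((MonoidHom.ofInjective hj).symm.toMonoidHom.comp f).comp e.symm.toMonoidHom, ?_⟩
  refine (Function.Surjective.comp (MonoidHom.ofInjective hj).symm.surjective ?_).comp e.symm.surjective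
  rintro ⟨y, hy⟩
  obtain ⟨x, rfl⟩ := hπ y
  exact ⟨⟨x, hy⟩, rfl⟩

/-- A section `A_r` gives a section `A_m`. -/
theorem exists_alt_section {G : Type*} [Group G] {m r : ℕ} (h : m ≤ r) {H : Subgroup G}
    (π : H →* alternatingGroup (Fin r)) (hπ : Function.Surjective π) :
    ∃ (H' : Subgroup G) (π' : H' →* alternatingGroup (Fin m)), Function.Surjective π' :=
  exists_section π hπ (altCast h) (altCast_injective h)

/-- A five-cycle. -/
def fiveCycle : Perm (Fin 7) :=
  ⟨![1, 2, 3, 4, 0, 5, 6], ![4, 0, 1, 2, 3, 5, 6], by decide, by decide⟩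

/-- An even permutation squaring the five-cycle. -/
def fiveSquarer : Perm (Fin 7) :=
  ⟨![0, 2, 4, 1, 3, 6, 5], ![0, 3, 1, 4, 2, 6, 5], by decide, by decide⟩

theorem five_facts : Perm.sign fiveCycle = 1 ∧ Perm.sign fiveSquarer = 1 ∧
    fiveSquarer * fiveCycle * fiveSquarer⁻¹ = fiveCycle ^ 2 ∧ fiveCycle ^ 5 = 1 ∧ fiveCycle ^ 4 ≠ fiveCycle := by
  decide +kernel

theorem le_six_of_centPow {G : Type*} [Group G] [Finite G] {T : Subgroup G} (hc : CentPow T 6)
    (hT : ∃ S : Sylow 5 G, (S : Subgroup G) ≤ T) {r : ℕ} {H : Subgroup G}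
    (π : H →* alternatingGroup (Fin r)) (hπ : Function.Surjective π) : r ≤ 6 := by
  by_contra hr
  haveI : Fact (Nat.Prime 5) := ⟨by norm_num⟩
  obtain ⟨H', π', hπ'⟩ := exists_alt_section (m := 7) (by omega) π hπ
  obtain ⟨h1, h2, h3, h4, h5⟩ := five_facts
  set x : alternatingGroup (Fin 7) := ⟨fiveCycle, h1⟩ with hx
  have hne : x ≠ 1 := fun e => h5 (by rw [show fiveCycle = 1 from congrArg Subtype.val e, one_pow])
  have hord : orderOf x = 5 := orderOf_eq_prime (Subtype.ext h4) hne
  have hcard : Nat.card (alternatingGroup (Fin 7)) = 2520 := by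
    rw [nat_card_alternatingGroup, Nat.card_fin]; rfl
  have h := pow_eq_of_section hc hT π' hπ' hord (by rw [hcard]; norm_num)
    (g := ⟨fiveSquarer, h2⟩) (a := 2) (Subtype.ext h3)
  rw [← pow_mod_orderOf, hord] at h
  exact h5 (congrArg Subtype.val h)

end Cfsg.Agent.ToralFusion
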