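import Cfsg.Agent.Lib.RGD.BN

/-!
# Fusion in the torus of a group with root group data

* `exists_N_conj` : a conjugation between elements of `H` is realised by an element of `N`;
* `pow_centralizes` : if `N/H` has exponent dividing `e`, the `e`-th power of an element normalising
  `P ≤ H` centralises `P`;
* `CentPow`, `CentPow.no_element` : the consequence for sections.
-/

set_option autoImplicit false

namespace Cfsg.Agent.ToralFusion

open RGD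

variable {Γ : Type*} [Group Γ] {Φ I : Type*} (R : RGD.RootData Γ Φ I)

theorem H_conj_Upos {h : Γ} (hh : h ∈ R.H) : ∀ y ∈ R.Upos, h * y * h⁻¹ ∈ R.Upos := R.H_conj_span _ hh

/-- The `H`-part of an element of prime-power order of `B` is trivial. -/
theorem eq_one_of_pow_mem {p : ℕ} (hp : p.Prime) (hcop : ¬ p ∣ Nat.card R.H) [Finite Γ] {h v : Γ}
    (hh : h ∈ R.H) (hv : v ∈ R.Upos) {k : ℕ} (hk : (h * v) ^ (p ^ k) ∈ R.Upos) : h = 1 := by
  have key : ∀ m : ℕ, (h ^ m)⁻¹ * (h * v) ^ m ∈ R.Upos := by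
    intro m
    induction m with
    | zero => simp
    | succ m ih =>
      have e : (h ^ (m + 1))⁻¹ * (h * v) ^ (m + 1) = h⁻¹ * ((h ^ m)⁻¹ * (h * v) ^ m) * h * v := by
        rw [pow_succ, pow_succ, mul_inv_rev]; group
      rw [e]
      refine mul_mem ?_ hv
      have := H_conj_Upos R (inv_mem hh) _ ih
      rwa [inv_inv] at this
  have h1 : h ^ (p ^ k) ∈ R.Upos := by
    have h2 := key (p ^ k)
    have : h ^ (p ^ k) = (h * v) ^ (p ^ k) * ((h ^ (p ^ k))⁻¹ * (h * v) ^ (p ^ k))⁻¹ := by group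
    rw [this]
    exact mul_mem hk (inv_mem h2)
  have h3 : h ^ (p ^ k) = 1 :=
    (Subgroup.mem_bot).1 (R.U_inf_H.le ⟨h1, pow_mem hh _⟩)
  refine orderOf_eq_one_iff.1 (Nat.Coprime.eq_one_of_dvd ?_ (orderOf_dvd_of_pow_eq_one h3))
  refine Nat.Coprime.pow_right k (Nat.Coprime.coprime_dvd_left (Subgroup.orderOf_dvd_natCard _ hh) ?_)
  exact ((Nat.Prime.coprime_iff_not_dvd hp).2 hcop).symm

/-- The middle term of a Bruhat decomposition is unique. -/
theorem middle_unique {p : ℕ} [Fact p.Prime] [Finite Γ] (hU : IsPGroup p R.Upos) (hcop : ¬ p ∣ Nat.card R.H)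
    {n n' u v : Γ} (hn : n ∈ R.N) (hn' : n' ∈ R.N) (hu : u ∈ R.Upos) (hv : v ∈ R.Upos)
    (e : n' = u * n * v) : n' = n := by
  have hB : n⁻¹ * n' ∈ R.B := by
    have m1 : (⟨n, R.N_le_G hn⟩ : R.G) ∈ R.bnPair.N := hn
    have m2 : (⟨n', R.N_le_G hn'⟩ : R.G) ∈ R.bnPair.N := hn'
    have hmem : (⟨n', R.N_le_G hn'⟩ : R.G) ∈ BN.C R.bnPair (BN.wOf R.bnPair m1) := by
      refine (BN.mem_C_mk R.bnPair).2 ⟨⟨u, R.B_le_G (R.Upos_le_B hu)⟩, R.Upos_le_B hu,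
        ⟨v, R.B_le_G (R.Upos_le_B hv)⟩, R.Upos_le_B hv, Subtype.ext ?_⟩
      simpa using e
    exact (BN.wOf_eq_iff R.bnPair m1 m2).1 (BN.C_unique R.bnPair hmem (BN.self_mem_C R.bnPair m2))
  have hH : n⁻¹ * n' ∈ R.H := R.B_inf_N.le ⟨hB, R.N.mul_mem (R.N.inv_mem hn) hn'⟩
  obtain ⟨k, hk⟩ := hU ⟨u, hu⟩
  have hk' : u ^ (p ^ k) = 1 := congrArg Subtype.val hk
  have h1 : n⁻¹ * n' = 1 := by
    refine eq_one_of_pow_mem R (Fact.out : p.Prime) hcop hH (inv_mem hv) (k := k) ?_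
    have e1 : n⁻¹ * n' * v⁻¹ = n⁻¹ * u * (n⁻¹)⁻¹ := by rw [e]; group
    rw [e1, conj_pow, hk', mul_one, mul_inv_cancel]
    exact one_mem _
  exact (inv_mul_eq_one.1 h1).symm

/-- An element conjugating elements of the torus into the torus acts on them like an element of `N`. -/
theorem exists_N_conj {p : ℕ} [Fact p.Prime] [Finite Γ] (hU : IsPGroup p R.Upos) (hcop : ¬ p ∣ Nat.card R.H)
    {g : Γ} (hg : g ∈ R.G) :
    ∃ n ∈ R.N, ∀ x ∈ R.H, g * x * g⁻¹ ∈ R.H → g * x * g⁻¹ = n * x * n⁻¹ := by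
  obtain ⟨w, hw⟩ := BN.exists_mem_C R.bnPair ⟨g, hg⟩
  induction w using QuotientGroup.induction_on with
  | _ n =>
  obtain ⟨b, hb, b', hb', e⟩ := (BN.mem_C_mk R.bnPair).1 hw
  have e' : g = b.1 * n.1.1 * b'.1 := congrArg Subtype.val e
  obtain ⟨u, hu, h, hh, eb⟩ := R.exists_B (show b.1 ∈ R.B from hb)
  obtain ⟨v, hv, h', hh', eb'⟩ := R.exists_B (show b'.1 ∈ R.B from hb')
  have hn : h * n.1.1 * h' ∈ R.N :=
    mul_mem (mul_mem (R.H_le_N hh) (show n.1.1 ∈ R.N from n.2)) (R.H_le_N hh')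
  set n' := h * n.1.1 * h' with hn'
  set v' := h'⁻¹ * v * (h'⁻¹)⁻¹ with hv'
  have hv2 : v' ∈ R.Upos := H_conj_Upos R (inv_mem hh') v hv
  have eg : g = u * n' * v' := by rw [e', eb, eb', hn', hv']; group
  refine ⟨n', hn, fun x hx hy => ?_⟩
  set y := g * x * g⁻¹ with hy'
  have eyx : y * (u * n' * v') = u * n' * v' * x := by rw [← eg, hy', inv_mul_cancel_right]
  have h1 : y * n' = n' * x := by
    refine middle_unique R hU hcop (u := (y * u * y⁻¹)⁻¹ * u) (v := x⁻¹ * v' * x * v'⁻¹)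
      (mul_mem hn (R.H_le_N hx)) (mul_mem (R.H_le_N hy) hn) ?_ ?_ ?_
    · exact mul_mem (inv_mem (H_conj_Upos R hy u hu)) hu
    · refine mul_mem ?_ (inv_mem hv2)
      have := H_conj_Upos R (inv_mem hx) v' hv2
      rwa [inv_inv] at this
    · calc y * n' = (y * u * y⁻¹)⁻¹ * (y * (u * n' * v')) * v'⁻¹ := by group
        _ = (y * u * y⁻¹)⁻¹ * (u * n' * v' * x) * v'⁻¹ := by rw [eyx]
        _ = (y * u * y⁻¹)⁻¹ * u * (n' * x) * (x⁻¹ * v' * x * v'⁻¹) := by group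
  exact eq_mul_inv_iff_mul_eq.2 h1

/-- `e`-th powers of elements normalising a subgroup of `T` centralise it. -/
def CentPow {G : Type*} [Group G] (T : Subgroup G) (e : ℕ) : Prop :=
  ∀ P ≤ T, ∀ g : G, (∀ x ∈ P, g * x * g⁻¹ ∈ P) → ∀ x ∈ P, g ^ e * x * (g ^ e)⁻¹ = x

theorem centPow {p : ℕ} [Fact p.Prime] [Finite Γ] (hU : IsPGroup p R.Upos) (hcop : ¬ p ∣ Nat.card R.H)
    (hab : ∀ a ∈ R.H, ∀ b ∈ R.H, a * b = b * a) {e : ℕ} (he : ∀ n ∈ R.N, n ^ e ∈ R.H) :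
    CentPow (R.H.subgroupOf R.G) e := by
  intro P hP g hg x hx
  obtain ⟨n, hn, hn'⟩ := exists_N_conj R hU hcop g.2
  have hiter : ∀ m : ℕ, g ^ m * x * (g ^ m)⁻¹ ∈ P ∧
      ((g ^ m * x * (g ^ m)⁻¹ : R.G) : Γ) = n ^ m * (x : Γ) * (n ^ m)⁻¹ := by
    intro m
    induction m with
    | zero => simpa using hx
    | succ m ih =>
      have e1 : g ^ (m + 1) * x * (g ^ (m + 1))⁻¹ = g * (g ^ m * x * (g ^ m)⁻¹) * g⁻¹ := by
        rw [pow_succ', mul_inv_rev]; group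
      refine ⟨e1 ▸ hg _ ih.1, ?_⟩
      rw [e1]
      have h1 := hn' _ (hP ih.1) (by simpa [Subgroup.mem_subgroupOf] using hP (hg _ ih.1))
      simp only [Subgroup.coe_mul, Subgroup.coe_inv, Subgroup.coe_subtype] at h1 ⊢
      have h2 := ih.2
      simp only [Subgroup.coe_mul, Subgroup.coe_inv] at h2
      refine h1.trans ?_
      rw [show ((g ^ m : R.G) : Γ) * (x : Γ) * ((g ^ m : R.G) : Γ)⁻¹ = n ^ m * (x : Γ) * (n ^ m)⁻¹ from h2,
        pow_succ', mul_inv_rev]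
      group
  refine Subtype.ext ((hiter e).2.trans ?_)
  exact mul_inv_eq_iff_eq_mul.2 (hab _ (he n hn) _ (hP hx))

end Cfsg.Agent.ToralFusion
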