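import Cfsg.Agent.Lib.ToralFusion.Basic
import Mathlib.GroupTheory.Sylow

/-!
# Sections of groups with a toral Sylow subgroup

* `pow_eq_of_section` : restriction on the fusion of an element of prime order in a section.
-/

set_option autoImplicit false
set_option linter.style.haveILetI false

namespace Cfsg.Agent.ToralFusion

theorem conj_pow_iterate {Q : Type*} [Group Q] {x g : Q} {a : ℕ} (h : g * x * g⁻¹ = x ^ a) :
    ∀ m : ℕ, g ^ m * x * (g ^ m)⁻¹ = x ^ (a ^ m)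
  | 0 => by simp
  | m + 1 => by
    calc g ^ (m + 1) * x * (g ^ (m + 1))⁻¹ = g * (g ^ m * x * (g ^ m)⁻¹) * g⁻¹ := by
          rw [pow_succ', mul_inv_rev]; group
      _ = (g * x * g⁻¹) ^ (a ^ m) := by rw [conj_pow_iterate h m, conj_pow]
      _ = x ^ (a ^ (m + 1)) := by rw [h, ← pow_mul, ← pow_succ']

theorem mem_smul_sylow {G : Type*} [Group G] {p : ℕ} {c : G} {P : Sylow p G} {y : G} :
    y ∈ ((c • P : Sylow p G) : Subgroup G) ↔ ∃ z ∈ (P : Subgroup G), c * z * c⁻¹ = y := by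
  rw [Sylow.coe_subgroup_smul, Subgroup.mem_smul_pointwise_iff_exists]
  rfl

/-- If `T` contains a Sylow `ℓ`-subgroup and `e`-th powers of elements normalising a subgroup of `T`
centralise it, then in a section with Sylow `ℓ`-subgroups of order `ℓ` an element of order `ℓ`
conjugate to its `a`-th power satisfies `x ^ (a ^ e) = x`. -/
theorem pow_eq_of_section {G : Type*} [Group G] [Finite G] {T : Subgroup G} {ℓ e : ℕ} [Fact ℓ.Prime]
    (hc : CentPow T e) (hT : ∃ S : Sylow ℓ G, (S : Subgroup G) ≤ T) {H : Subgroup G} {Q : Type*}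
    [Group Q] (π : H →* Q) (hπ : Function.Surjective π) {x g : Q} (hx : orderOf x = ℓ)
    (hQ : ¬ ℓ * ℓ ∣ Nat.card Q) {a : ℕ} (hg : g * x * g⁻¹ = x ^ a) : x ^ (a ^ e) = x := by
  haveI : Finite Q := Finite.of_surjective π hπ
  obtain ⟨P⟩ : Nonempty (Sylow ℓ H) := inferInstance
  -- the image of `P` is conjugate to `⟨x⟩`
  have hzp : IsPGroup ℓ (Subgroup.zpowers x) :=
    IsPGroup.of_card (n := 1) (by rw [Nat.card_zpowers, hx, pow_one])
  obtain ⟨X, hX⟩ := hzp.exists_le_sylow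
  have hXcard : Nat.card X = ℓ := by
    obtain ⟨n, hn⟩ := IsPGroup.iff_card.1 X.isPGroup'
    have h1 : ℓ ∣ Nat.card X := by
      have := Subgroup.card_dvd_of_le hX
      rwa [Nat.card_zpowers, hx] at this
    have hlt : n < 2 := by
      by_contra hn2
      refine hQ ((?_ : ℓ * ℓ ∣ Nat.card X).trans (Subgroup.card_subgroup_dvd_card _))
      rw [hn, ← sq]
      exact pow_dvd_pow _ (by omega)
    interval_cases n
    · rw [hn, pow_zero, Nat.dvd_one] at h1; exact absurd h1 (Fact.out : ℓ.Prime).ne_one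
    · rw [hn, pow_one]
  have hXeq : Subgroup.zpowers x = X :=
    Subgroup.eq_of_le_of_card_ge hX (by rw [hXcard, Nat.card_zpowers, hx])
  obtain ⟨q, hq⟩ := MulAction.exists_smul_eq Q (P.mapSurjective hπ) X
  obtain ⟨c, rfl⟩ := hπ q
  set P' : Sylow ℓ H := c • P with hP'
  have himg : (P' : Subgroup H).map π = Subgroup.zpowers x := by
    rw [hXeq, ← hq, hP']
    ext y
    rw [mem_smul_sylow, Subgroup.mem_map]
    simp only [Sylow.coe_mapSurjective, Subgroup.mem_map, mem_smul_sylow]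
    constructor
    · rintro ⟨_, ⟨z, hz, rfl⟩, rfl⟩
      exact ⟨π z, ⟨z, hz, rfl⟩, by simp⟩
    · rintro ⟨_, ⟨z, hz, rfl⟩, rfl⟩
      exact ⟨_, ⟨z, hz, rfl⟩, by simp⟩
  -- a lift of `g` normalising `P'`
  set M : Subgroup H := (Subgroup.zpowers x).comap π with hM
  have hPM : (P' : Subgroup H) ≤ M := Subgroup.map_le_iff_le_comap.1 himg.le
  obtain ⟨g₀, rfl⟩ := hπ g
  have hgM : ((g₀ • P' : Sylow ℓ H) : Subgroup H) ≤ M := by
    intro y hy
    obtain ⟨z, hz, rfl⟩ := mem_smul_sylow.1 hy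
    obtain ⟨i, hi⟩ := Subgroup.mem_zpowers_iff.1 (hPM hz)
    refine Subgroup.mem_zpowers_iff.2 ⟨(a : ℤ) * i, ?_⟩
    rw [zpow_mul, zpow_natCast, ← hg, conj_zpow, hi]
    simp
  obtain ⟨k, hk⟩ := MulAction.exists_smul_eq M ((g₀ • P').subtype hgM) (P'.subtype hPM)
  have hk' : (k : H) • (g₀ • P') = P' := by
    refine Sylow.subtype_injective (N := M) (hP := ?_) (hQ := hPM) ?_
    · intro y hy
      obtain ⟨z, hz, rfl⟩ := mem_smul_sylow.1 hy
      exact mul_mem (mul_mem k.2 (hgM hz)) (inv_mem k.2)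
    · rw [← hk, Sylow.smul_subtype]; rfl
  set g₁ : H := (k : H) * g₀ with hg₁
  have hnorm : ∀ y ∈ (P' : Subgroup H), g₁ * y * g₁⁻¹ ∈ (P' : Subgroup H) := by
    intro y hy
    have h1 : g₁ * y * g₁⁻¹ ∈ ((g₁ • P' : Sylow ℓ H) : Subgroup H) := mem_smul_sylow.2 ⟨y, hy, rfl⟩
    rwa [hg₁, mul_smul, hk'] at h1
  have hgx : π g₁ * x * (π g₁)⁻¹ = x ^ a := by
    obtain ⟨i, hi⟩ := Subgroup.mem_zpowers_iff.1 (show π k ∈ Subgroup.zpowers x from k.2)
    have hcom : π k * x ^ a * (π k)⁻¹ = x ^ a := by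
      rw [← hi, ← zpow_natCast, mul_inv_eq_iff_eq_mul, ← zpow_add, ← zpow_add, add_comm]
    rw [hg₁, map_mul, mul_inv_rev,
      show π k * π g₀ * x * ((π g₀)⁻¹ * (π k)⁻¹) = π k * (π g₀ * x * (π g₀)⁻¹) * (π k)⁻¹ by group,
      hg, hcom]
  -- move `P'` into `T`
  obtain ⟨S, hS⟩ := hT
  have hPG : IsPGroup ℓ ((P' : Subgroup H).map H.subtype) := P'.isPGroup'.map _
  obtain ⟨S', hS'⟩ := hPG.exists_le_sylow
  obtain ⟨d, hd⟩ := MulAction.exists_smul_eq G S' S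
  have hPT : ((P' : Subgroup H).map H.subtype).map (MulAut.conj d).toMonoidHom ≤ T := by
    refine (Subgroup.map_mono hS').trans (le_trans (le_of_eq ?_) hS)
    rw [← hd]
    ext y
    rw [mem_smul_sylow, Subgroup.mem_map]
    rfl
  obtain ⟨x₀, hx₀, hxπ⟩ := (himg ▸ Subgroup.mem_zpowers x : x ∈ (P' : Subgroup H).map π)
  have hpow : (x₀ : H) = g₁ ^ e * x₀ * (g₁ ^ e)⁻¹ := by
    have h1 := hc _ hPT (d * g₁ * d⁻¹) ?_ (d * x₀ * d⁻¹) ⟨x₀, ⟨x₀, hx₀, rfl⟩, rfl⟩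
    · rw [conj_pow] at h1
      refine Subtype.ext ?_
      simp only [Subgroup.coe_mul, Subgroup.coe_inv, SubmonoidClass.coe_pow]
      calc (x₀ : G) = d⁻¹ * (d * (g₁ : G) ^ e * d⁻¹ * (d * x₀ * d⁻¹) * (d * (g₁ : G) ^ e * d⁻¹)⁻¹) * d := by
            rw [h1]; group
        _ = (g₁ : G) ^ e * x₀ * ((g₁ : G) ^ e)⁻¹ := by group
    · rintro _ ⟨_, ⟨y, hy, rfl⟩, rfl⟩
      refine ⟨_, ⟨g₁ * y * g₁⁻¹, hnorm y hy, rfl⟩, ?_⟩
      simp [MulAut.conj_apply]
      group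
  have h2 := congrArg π hpow
  rw [map_mul, map_mul, map_inv, map_pow, hxπ, conj_pow_iterate hgx] at h2
  exact h2.symm

end Cfsg.Agent.ToralFusion
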