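import Cfsg.Agent.Lib.ToralFusion.AltEight
import Cfsg.Agent.Lib.TwistE6D4.Orders
import Cfsg.Agent.Lib.Chev.DataD4
import Mathlib.FieldTheory.Finite.Extension

/-!
# Alternating sections of ³D₄(q)

* `exists_embedding` : ³D₄(q) ↪ ³D₄(q⁴);
* `le_six_twistedD4`, `le_seven_twistedD4` : the bounds.
-/

set_option autoImplicit false
set_option linter.style.haveILetI false

namespace Cfsg.Agent.ToralFusion

open Cfsg.Lie Cfsg.Lie.ChevalleyDatum Cfsg.Agent.Chev

/-- A Sylow subgroup meeting `T` in a subgroup of index at most `ℓ ^ a`, if the index of `T` is `ℓ ^ a` times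
a number prime to `ℓ`. -/
theorem exists_sylow_relIndex_le {G : Type*} [Group G] [Finite G] (T : Subgroup G) {ℓ a m : ℕ} [Fact ℓ.Prime]
    (h : T.index = ℓ ^ a * m) (hm : ¬ ℓ ∣ m) : ∃ S : Sylow ℓ G, T.relIndex S ≤ ℓ ^ a := by
  obtain ⟨R⟩ : Nonempty (Sylow ℓ T) := inferInstance
  obtain ⟨S, hS⟩ := (R.isPGroup'.map T.subtype).exists_le_sylow
  refine ⟨S, ?_⟩
  have hR : Nat.card ((R : Subgroup T).map T.subtype) = ℓ ^ (Nat.card T).factorization ℓ := by
    rw [Subgroup.card_map_of_injective T.subtype_injective, Sylow.card_eq_multiplicity]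
  have hle : (R : Subgroup T).map T.subtype ≤ T ⊓ S := le_inf (Subgroup.map_subtype_le _) hS
  have h1 : Nat.card (T ⊓ S : Subgroup G) * T.relIndex S = Nat.card S := by
    rw [← Subgroup.inf_relIndex_right, ← Subgroup.relIndex_bot_left, ← Subgroup.relIndex_bot_left]
    exact Subgroup.relIndex_mul_relIndex _ _ _ bot_le inf_le_right
  have hfac : (Nat.card G).factorization ℓ = (Nat.card T).factorization ℓ + a := by
    have hm0 : m ≠ 0 := fun e => hm (e ▸ dvd_zero ℓ)
    have hl0 : ℓ ^ a ≠ 0 := pow_ne_zero _ (Fact.out : ℓ.Prime).ne_zero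
    rw [← T.card_mul_index, h, Nat.factorization_mul Nat.card_pos.ne' (Nat.mul_ne_zero hl0 hm0),
      Nat.factorization_mul hl0 hm0, Finsupp.add_apply, Finsupp.add_apply, Nat.Prime.factorization_pow Fact.out,
      Finsupp.single_eq_same, Nat.factorization_eq_zero_of_not_dvd hm, add_zero]
  have h2 : Nat.card S = ℓ ^ (Nat.card T).factorization ℓ * ℓ ^ a := by
    rw [Sylow.card_eq_multiplicity, hfac, pow_add]
  have h3 := Nat.le_of_dvd Nat.card_pos (Subgroup.card_dvd_of_le hle)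
  rw [hR] at h3
  refine Nat.le_of_mul_le_mul_left (?_ : ℓ ^ (Nat.card T).factorization ℓ * T.relIndex S ≤
    ℓ ^ (Nat.card T).factorization ℓ * ℓ ^ a) (pow_pos (Fact.out : ℓ.Prime).pos _)
  rw [← h2, ← h1]
  exact Nat.mul_le_mul_right _ h3

section D4

variable {K : Type*} [Field K] [Fintype K]

/-- The torus of ³D₄(q) as a subgroup of ³D₄(q). -/
def torus (K : Type*) [Field K] (q : ℕ) : Subgroup (twistedD4 K q) :=
  (chevD4.diagonalSubgroup K ⊓ twistedD4 K q).subgroupOf (twistedD4 K q)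

theorem index_torus {q : ℕ} (hq : IsPrimePow q) (hK : Fintype.card K = q ^ 3) :
    (torus K q).index = q ^ 12 * (q + 1) ^ 2 * (q ^ 2 - q + 1) * (q ^ 8 + q ^ 4 + 1) := by
  have h := (torus K q).card_mul_index
  rw [TwistE6D4.card_twistedD4 DataD4.good hq hK, torus,
    Nat.card_congr (Subgroup.subgroupOfEquivOfLe inf_le_right).toEquiv,
    TwistE6D4.card_diag_D4 DataD4.good hq hK] at h
  have h2 := hq.two_le
  refine Nat.eq_of_mul_eq_mul_left (n := (q - 1) ^ 2 * (q ^ 2 + q + 1)) ?_ (h.trans ?_)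
  · exact Nat.mul_pos (pow_pos (by omega) _) (by omega)
  · have h1 : q ≤ q ^ 2 := Nat.le_self_pow (by norm_num) q
    have h3 : 1 ≤ q ^ 6 := Nat.one_le_pow _ _ (by omega)
    have h4 : 1 ≤ q ^ 2 := by omega
    zify [h1, h3, h4, (show 1 ≤ q by omega)]
    ring

theorem weyl_pow_six (w : (CoxeterMatrix.G₂).Group) : w ^ 6 = 1 := by
  set cs := (CoxeterMatrix.G₂).toCoxeterSystem
  set s := cs.simple 0
  set t := cs.simple 1
  have hs : s * s = 1 := cs.simple_mul_simple_self 0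
  have ht : t * t = 1 := cs.simple_mul_simple_self 1
  have hst : (s * t) ^ 6 = 1 := cs.simple_mul_simple_pow 0 1
  have hflip : ∀ i : ℤ, s * (s * t) ^ i * s = (s * t) ^ (-i) := fun i => by
    have hinv : s⁻¹ = s := inv_eq_of_mul_eq_one_left hs
    have htinv : t⁻¹ = t := inv_eq_of_mul_eq_one_left ht
    have e : s * (s * t) * s⁻¹ = (s * t)⁻¹ := by
      rw [mul_inv_rev, hinv, htinv, ← mul_assoc, hs, one_mul]
    have := conj_zpow (i := i) (a := s) (b := s * t)
    rw [e, inv_zpow, ← zpow_neg, hinv] at this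
    exact this.symm
  have key : ∀ x : (CoxeterMatrix.G₂).Group, ∃ i : ℤ, x = (s * t) ^ i ∨ x = (s * t) ^ i * s := by
    intro x
    have hx : x ∈ Subgroup.closure (Set.range cs.simple) := by rw [cs.subgroup_closure_range_simple]; trivial
    induction hx using Subgroup.closure_induction with
    | mem x hx =>
      obtain ⟨j, rfl⟩ := hx
      fin_cases j
      · exact ⟨0, Or.inr (by simp [s])⟩
      · refine ⟨-1, Or.inr ?_⟩
        rw [zpow_neg_one, mul_inv_rev, inv_mul_cancel_right]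
        exact (inv_eq_of_mul_eq_one_left ht).symm
    | one => exact ⟨0, Or.inl (by simp)⟩
    | mul a b _ _ ha hb =>
      obtain ⟨i, hi | hi⟩ := ha <;> obtain ⟨j, hj | hj⟩ := hb <;> subst hi <;> subst hj
      · exact ⟨i + j, Or.inl (zpow_add _ _ _).symm⟩
      · exact ⟨i + j, Or.inr (by rw [zpow_add]; group)⟩
      · refine ⟨i + -j, Or.inr ?_⟩
        rw [zpow_add, ← hflip j, mul_assoc ((s * t) ^ i) (s * (s * t) ^ j * s) s, mul_assoc (s * (s * t) ^ j) s s, hs,
          mul_one]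
        group
      · refine ⟨i + -j, Or.inl ?_⟩
        rw [zpow_add, ← hflip j]
        group
    | inv a _ ha =>
      obtain ⟨i, hi | hi⟩ := ha <;> subst hi
      · exact ⟨-i, Or.inl (zpow_neg _ _).symm⟩
      · refine ⟨i, Or.inr ?_⟩
        rw [mul_inv_rev, ← zpow_neg, ← hflip i, inv_eq_of_mul_eq_one_left hs, ← mul_assoc, ← mul_assoc, hs, one_mul]
  obtain ⟨i, rfl | rfl⟩ := key w
  · rw [← zpow_natCast, ← zpow_mul, mul_comm, zpow_mul, zpow_natCast, hst, one_zpow]
  · have h2 : ((s * t) ^ i * s) ^ 2 = 1 := by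
      rw [pow_two, show (s * t) ^ i * s * ((s * t) ^ i * s) = (s * t) ^ i * (s * (s * t) ^ i * s) by group,
        hflip, ← zpow_add, add_neg_cancel, zpow_zero]
    rw [show 6 = 2 * 3 from rfl, pow_mul, h2, one_pow]

theorem centPow_torus (p f : ℕ) [Fact p.Prime] (hf : 1 ≤ f) (hK : Fintype.card K = (p ^ f) ^ 3) :
    CentPow (torus K (p ^ f)) 6 := by
  have hq : IsPrimePow (p ^ f) := ⟨p, f, (Fact.out : p.Prime).prime, hf, rfl⟩
  obtain ⟨φ, e, -⟩ := TwistE6D4.exists_ctxD4 (K := K) DataD4.good hq hK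
  obtain ⟨ψ, -, hker⟩ :=
    (TwistE6D4.ctxD4 DataD4.good φ).exists_weylHom TwistE6D4.d4_ordOK ChevBN.rootsD4 e
  set C := TwistE6D4.ctxD4 (K := K) DataD4.good φ with hC
  have hG : twistedD4 K (p ^ f) = C.rgd.G := e.trans C.rgd_G.symm
  have hH : chevD4.diagonalSubgroup K ⊓ twistedD4 K (p ^ f) = C.rgd.H := by
    rw [e]; exact C.diagonal_inf_G0 ChevBN.rootsD4
  have hN : chevD4.monomialSubgroup K ⊓ twistedD4 K (p ^ f) = C.rgd.N := by
    rw [e]; exact C.monomial_inf_G0 ChevBN.rootsD4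
  have hUpos : chevD4.posUnipotent K ⊓ twistedD4 K (p ^ f) = C.rgd.Upos := by
    rw [e]; exact C.pos_inf_G0
  have hU : IsPGroup p C.rgd.Upos := by
    refine IsPGroup.of_card (n := f * 12) ?_
    rw [← hUpos, TwistE6D4.card_pos_D4 DataD4.good hq hK, pow_mul]
  have hcop : ¬ p ∣ Nat.card C.rgd.H := by
    have hp := (Fact.out : p.Prime)
    rw [← hH, TwistE6D4.card_diag_D4 DataD4.good hq hK, hp.dvd_mul]
    have hd : p ∣ p ^ f := dvd_pow_self p (by omega)
    have h1 : 1 ≤ p ^ f := Nat.one_le_pow _ _ hp.pos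
    rintro (h | h)
    · have h' := hp.dvd_of_dvd_pow h
      have := Nat.dvd_sub hd h'
      rw [Nat.sub_sub_self h1, Nat.dvd_one] at this
      exact hp.ne_one this
    · have h2 : p ∣ (p ^ f) ^ 2 + p ^ f := dvd_add (dvd_pow hd two_ne_zero) hd
      exact hp.ne_one (Nat.dvd_one.1 ((Nat.dvd_add_right h2).1 h))
  have hab : ∀ a ∈ C.rgd.H, ∀ b ∈ C.rgd.H, a * b = b * a := by
    intro a ha b hb
    obtain ⟨x, -, rfl⟩ := (show a ∈ C.H0 from ha)
    obtain ⟨y, -, rfl⟩ := (show b ∈ C.H0 from hb)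
    rw [← map_mul, ← map_mul, mul_comm]
  have he : ∀ n ∈ C.rgd.N, n ^ 6 ∈ C.rgd.H := by
    intro n hn
    rw [← hN] at hn
    have h1 : (⟨n, hn⟩ : ↥(chevD4.monomialSubgroup K ⊓ twistedD4 K (p ^ f))) ^ 6 ∈ ψ.ker := by
      rw [MonoidHom.mem_ker, map_pow, weyl_pow_six]
    rw [hker, Subgroup.mem_subgroupOf] at h1
    exact hH ▸ h1
  have h := centPow C.rgd hU hcop hab he
  rw [torus, hH]
  rw [hG]
  exact h

theorem le_six_of_split (p f : ℕ) [Fact p.Prime] (hf : 1 ≤ f) (hK : Fintype.card K = (p ^ f) ^ 3)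
    (h1 : p ^ f % 5 = 1) {r : ℕ} {H : Subgroup (twistedD4 K (p ^ f))} (π : H →* alternatingGroup (Fin r))
    (hπ : Function.Surjective π) : r ≤ 6 := by
  have hq : IsPrimePow (p ^ f) := ⟨p, f, (Fact.out : p.Prime).prime, hf, rfl⟩
  haveI : Fact (Nat.Prime 5) := ⟨by norm_num⟩
  refine le_six_of_centPow (centPow_torus p f hf hK) ?_ π hπ
  have hm : ¬ 5 ∣ (p ^ f) ^ 12 * (p ^ f + 1) ^ 2 * ((p ^ f) ^ 2 - p ^ f + 1) *
      ((p ^ f) ^ 8 + (p ^ f) ^ 4 + 1) := by
    generalize p ^ f = q at h1 ⊢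
    have h2 : q ≤ q ^ 2 := Nat.le_self_pow (by norm_num) q
    intro hdvd
    have h3 : ((q ^ 12 * (q + 1) ^ 2 * (q ^ 2 - q + 1) * (q ^ 8 + q ^ 4 + 1) : ℕ) : ZMod 5) = 0 :=
      (ZMod.natCast_eq_zero_iff _ _).2 hdvd
    have hq5 : (q : ZMod 5) = 1 := by rw [← ZMod.natCast_mod q 5, h1, Nat.cast_one]
    push_cast [Nat.cast_sub h2, hq5] at h3
    norm_num at h3
    rw [show (12 : ZMod 5) = ((12 : ℕ) : ZMod 5) by norm_num, ZMod.natCast_eq_zero_iff] at h3
    norm_num at h3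
  obtain ⟨S, hS⟩ := exists_sylow_relIndex_le (torus K (p ^ f)) (ℓ := 5) (a := 0)
    (by rw [index_torus hq hK, pow_zero, one_mul]) hm
  refine ⟨S, Subgroup.relIndex_eq_one.1 ?_⟩
  have h0 : (torus K (p ^ f)).relIndex S ≠ 0 :=
    (Subgroup.index_ne_zero_of_finite : ((torus K (p ^ f)).subgroupOf S).index ≠ 0)
  rw [pow_zero] at hS
  omega

theorem le_seven_of_five (f : ℕ) (hf : 1 ≤ f) (hK : Fintype.card K = (5 ^ f) ^ 3) {r : ℕ}
    {H : Subgroup (twistedD4 K (5 ^ f))} (π : H →* alternatingGroup (Fin r)) (hπ : Function.Surjective π) :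
    r ≤ 7 := by
  haveI : Fact (Nat.Prime 5) := ⟨by norm_num⟩
  haveI : Fact (Nat.Prime 2) := ⟨Nat.prime_two⟩
  have hq : IsPrimePow (5 ^ f) := ⟨5, f, (Nat.prime_five).prime, hf, rfl⟩
  obtain ⟨φ, e, h⟩ := TwistE6D4.exists_ctxD4 (K := K) DataD4.good hq hK
  set C := TwistE6D4.ctxD4 (K := K) DataD4.good φ with hC
  have hH : chevD4.diagonalSubgroup K ⊓ twistedD4 K (5 ^ f) = C.rgd.H := by
    rw [e]; exact C.diagonal_inf_G0 ChevBN.rootsD4
  refine le_seven_of_index_four (T := torus K (5 ^ f)) ?_ ?_ ?_ π hπ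
  · intro a ha b hb
    obtain ⟨x, -, hx⟩ := (show (a : GL chevD4.Idx K) ∈ C.H0 from hH.le ha)
    obtain ⟨y, -, hy⟩ := (show (b : GL chevD4.Idx K) ∈ C.H0 from hH.le hb)
    refine Subtype.ext ?_
    rw [Subgroup.coe_mul, Subgroup.coe_mul, ← hx, ← hy, ← map_mul, ← map_mul, mul_comm]
  · -- elements of order dividing 2
    set θ := (TwistE6D4.theta chevD4 K).comp (TwistE6D4.TorSym C.T C.φ).subtype with hθ
    have hker : θ.ker = ⊥ := by
      have h2 := TwistE6D4.Ctx.card_TorSym_eq h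
      rw [← hH, TwistE6D4.card_diag_D4 DataD4.good hq hK, TwistE6D4.Ctx.card_TorSym h] at h2
      have h3 : ∏ a, ((5 ^ f) ^ C.L a - 1) = (5 ^ f - 1) ^ 2 * ((5 ^ f) ^ 2 + 5 ^ f + 1) := by
        show ∏ a : Fin 2, ((5 ^ f) ^ TwistE6D4.d4Twist.len (chevD4.simple (TwistE6D4.d4Node a).val) - 1) = _
        simp only [TwistE6D4.d4_len, Fin.prod_univ_two]
        have h5 : 1 ≤ 5 ^ f := Nat.one_le_pow _ _ (by norm_num)
        have h6 : 1 ≤ (5 ^ f) ^ 3 := Nat.one_le_pow _ _ (by omega)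
        norm_num
        zify [h5, h6]
        ring
      rw [h3] at h2
      refine Subgroup.eq_bot_of_card_eq _ (Nat.eq_of_mul_eq_mul_right ?_ (h2.symm.trans (one_mul _).symm))
      exact Nat.mul_pos (pow_pos (by have := hq.two_le; omega) _) (Nat.succ_pos _)
    haveI : Finite {t : torus K (5 ^ f) // t ^ 2 = 1} := inferInstance
    have hinj : Function.Injective θ := (MonoidHom.ker_eq_bot_iff _).1 hker
    have hpre : ∀ t : {t : torus K (5 ^ f) // t ^ 2 = 1}, ∃ x, θ x = ((t.1.1 : twistedD4 K (5 ^ f)) : GL chevD4.Idx K) := by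
      intro t
      obtain ⟨x, hx, hx'⟩ := (show ((t.1.1 : twistedD4 K (5 ^ f)) : GL chevD4.Idx K) ∈ C.H0 from hH.le t.1.2)
      exact ⟨⟨x, hx⟩, hx'⟩
    choose x hx using hpre
    have hx2 : ∀ t, x t ^ 2 = 1 := fun t => hinj (by
      rw [map_pow, map_one, hx]
      have h2 := congrArg (fun z : torus K (5 ^ f) => ((z : twistedD4 K (5 ^ f)) : GL chevD4.Idx K)) t.2
      simpa using h2)
    have hsq : ∀ t i, (((x t).1 i : Kˣ) : K) = 1 ∨ (((x t).1 i : Kˣ) : K) = -1 := fun t i => by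
      have h1 := congrArg (fun z : TwistE6D4.TorSym C.T C.φ => ((z.1 i : Kˣ) : K)) (hx2 t)
      refine mul_self_eq_one_iff.1 ?_
      simpa [pow_two] using h1
    classical
    refine le_trans (Nat.card_le_card_of_injective
      (fun t => (decide (((x t).1 (0 : Fin 4) : K) = 1), decide (((x t).1 (1 : Fin 4) : K) = 1))) ?_)
      (by simp)
    intro s t hst
    simp only [Prod.mk.injEq, decide_eq_decide] at hst
    have e0 : (x s).1 (0 : Fin 4) = (x t).1 (0 : Fin 4) := by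
      rcases hsq s (0 : Fin 4) with a | a
      · exact Units.ext (a.trans (hst.1.1 a).symm)
      · rcases hsq t (0 : Fin 4) with b | b
        · exact Units.ext ((hst.1.2 b).trans b.symm)
        · exact Units.ext (a.trans b.symm)
    have e1 : (x s).1 (1 : Fin 4) = (x t).1 (1 : Fin 4) := by
      rcases hsq s (1 : Fin 4) with a | a
      · exact Units.ext (a.trans (hst.2.1 a).symm)
      · rcases hsq t (1 : Fin 4) with b | b
        · exact Units.ext ((hst.2.2 b).trans b.symm)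
        · exact Units.ext (a.trans b.symm)
    have e2 : (x s).1 (2 : Fin 4) = (x t).1 (2 : Fin 4) := by
      rw [(x s).2 (0 : Fin 4) |> fun h => (h : (x s).1 (2 : Fin 4) = _),
        (x t).2 (0 : Fin 4) |> fun h => (h : (x t).1 (2 : Fin 4) = _), e0]
    have e3 : (x s).1 (3 : Fin 4) = (x t).1 (3 : Fin 4) := by
      rw [(x s).2 (2 : Fin 4) |> fun h => (h : (x s).1 (3 : Fin 4) = _),
        (x t).2 (2 : Fin 4) |> fun h => (h : (x t).1 (3 : Fin 4) = _), e2]
    have : x s = x t := Subtype.ext (funext fun i => by fin_cases i <;> assumption)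
    refine Subtype.ext (Subtype.ext (Subtype.ext ?_))
    rw [← hx s, ← hx t, this]
  · -- the index
    have hm : ∀ q : ℕ, q % 4 = 1 → (q + 1) ^ 2 = 4 * ((q + 1) / 2) ^ 2 ∧ Odd ((q + 1) / 2) ∧ Odd q := by
      intro q hq
      refine ⟨?_, Nat.odd_iff.2 (by omega), Nat.odd_iff.2 (by omega)⟩
      conv_lhs => rw [show q + 1 = 2 * ((q + 1) / 2) by omega]
      ring
    obtain ⟨hm1, hm2, hm3⟩ := hm (5 ^ f) (by rw [Nat.pow_mod]; norm_num)
    generalize hq' : 5 ^ f = q at *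
    have hodd : ¬ 2 ∣ q ^ 12 * ((q + 1) / 2) ^ 2 * (q ^ 2 - q + 1) * (q ^ 8 + q ^ 4 + 1) := by
      rw [Nat.two_dvd_ne_zero, ← Nat.odd_iff]
      refine Odd.mul (Odd.mul (Odd.mul hm3.pow hm2.pow) ?_) ?_
      · exact (Nat.Odd.sub_odd hm3.pow hm3).add_one
      · exact (hm3.pow.add_odd hm3.pow).add_one
    exact exists_sylow_relIndex_le (torus K q) (ℓ := 2) (a := 2) (by rw [index_torus hq hK, hm1]; ring) hodd

end D4

/-- ³D₄(q) embeds into ³D₄(Q) along a field embedding taking `t ↦ t^q` to `t ↦ t^Q`. -/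
theorem exists_embedding {K L : Type*} [Field K] [Field L] (g : K →+* L) {q Q : ℕ}
    (hg : ∀ t, g t ^ Q = g (t ^ q)) :
    ∃ ι : twistedD4 K q →* twistedD4 L Q, Function.Injective ι := by
  have hx : ∀ (r : ℕ) (t : K), (chevD4.x K r t).map g = chevD4.x L r (g t) := by
    intro r t
    by_cases hr : r < chevD4.nroots
    · rw [x_eq_xR chevD4 hr, x_eq_xR chevD4 hr, xR_map]
    · rw [x_of_le chevD4 (Nat.not_lt.1 hr), x_of_le chevD4 (Nat.not_lt.1 hr)]
      simp
  have hw : ∀ w : List (ℕ × K), (chevD4.wordMat K w).map g = chevD4.wordMat L (w.map fun z => (z.1, g z.2)) := by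
    intro w
    show g.mapMatrix (chevD4.wordMat K w) = _
    rw [ChevalleyDatum.wordMat, map_list_prod, ChevalleyDatum.wordMat, List.map_map, List.map_map]
    exact congrArg List.prod (List.map_congr_left fun z _ => hx z.1 z.2)
  have hinj : Function.Injective (Matrix.GeneralLinearGroup.map (n := chevD4.Idx) g) := fun a b h =>
    Units.ext (Matrix.map_injective g.injective (congrArg Units.val h))
  have hle : twistedD4 K q ≤ (twistedD4 L Q).comap (Matrix.GeneralLinearGroup.map g) := by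
    refine (Subgroup.closure_le _).2 ?_
    rintro a ⟨w, hw', ha⟩
    refine Subgroup.subset_closure ⟨w.map fun z => (z.1, g z.2), ?_, ?_⟩
    · rcases hw' with ⟨t, ht, r, hr, rfl⟩ | ⟨t, rs, hrs, rfl⟩
      · exact Or.inl ⟨g t, by rw [hg, ht], r, hr, rfl⟩
      · refine Or.inr ⟨g t, rs, hrs, ?_⟩
        simp only [List.map_cons, List.map_nil]
        rw [hg, pow_two, pow_two, pow_mul, pow_mul, hg, hg]
    · rw [← hw, ← ha]
      rfl
  refine ⟨((Matrix.GeneralLinearGroup.map g).comp (twistedD4 K q).subtype).codRestrict _ fun a => hle a.2, ?_⟩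
  intro a b h
  exact Subtype.ext (hinj (congrArg Subtype.val h))

theorem le_six_twistedD4 {K : Type*} [Field K] [Fintype K] (p f : ℕ) [Fact p.Prime] [CharP K p] (hf : 1 ≤ f)
    (hp : p ≠ 5) (hK : Fintype.card K = (p ^ f) ^ 3) {r : ℕ} {H : Subgroup (twistedD4 K (p ^ f))}
    (π : H →* alternatingGroup (Fin r)) (hπ : Function.Surjective π) : r ≤ 6 := by
  haveI : Fintype (FiniteField.Extension K p 4) := Fintype.ofFinite _
  set L := FiniteField.Extension K p 4
  have hL : Fintype.card L = (p ^ (4 * f)) ^ 3 := by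
    rw [← Nat.card_eq_fintype_card, FiniteField.natCard_extension, Nat.card_eq_fintype_card, hK]
    ring
  have hg : ∀ t : K, algebraMap K L t ^ (p ^ (4 * f)) = algebraMap K L (t ^ p ^ f) := fun t => by
    rw [← map_pow]
    congr 1
    rw [show p ^ (4 * f) = (p ^ f) ^ 3 * p ^ f by ring, pow_mul, ← hK, FiniteField.pow_card]
  obtain ⟨ι, hι⟩ := exists_embedding (algebraMap K L) hg
  let e := H.equivMapOfInjective ι hι
  refine le_six_of_split p (4 * f) (by omega) hL ?_ (π.comp e.symm.toMonoidHom) (hπ.comp e.symm.surjective)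
  have h5 : Nat.Coprime p 5 := (Nat.coprime_primes Fact.out (by norm_num)).2 hp
  have := Nat.ModEq.pow_totient (h5.pow_left f)
  rw [show Nat.totient 5 = 4 by decide +kernel, ← pow_mul, mul_comm] at this
  exact this

end Cfsg.Agent.ToralFusion
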